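import Cfsg.Agent.Lib.GoldCascade.Defs
import Cfsg.Agent.Lib.Walter.Main
import Cfsg.Agent.Lib.Walter.Ab.Main
import Cfsg.Agent.Lib.GoldschmidtS3.Unitary
import Cfsg.Agent.Lib.SolvSF.Minimal
import Cfsg.Agent.Lib.WalterUse.SimpleCases
import Cfsg.Agent.S0222
import Cfsg.Agent.S0252
import Cfsg.Agent.S0253

/-!
Simple groups in which no 2-element outside the involutions is real (S4030), over Goldschmidt's theorem.
-/

set_option autoImplicit false
set_option linter.unusedSectionVars false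
set_option linter.style.haveILetI false

namespace CfsgLib.GoldCascade

open Cfsg Matrix CfsgLib.PSUBorel CfsgLib.PSU3Min

universe u

section Unitary

variable {F : Type} [Field F] [Fintype F] (c : Conj F) [CharP F 2]

/-- An upper unitriangular element of `SU₃(q)`. -/
def uni (a b : F) (h : b + c.σ b = a * c.σ a) : SUs c 3 :=
  ⟨⟨!![1, a, b; 0, 1, c.σ a; 0, 0, 1], by simp [Matrix.det_fin_three]⟩, by
    show Cond c !![1, a, b; 0, 1, c.σ a; 0, 0, 1]
    ext i j
    rw [Matrix.mul_apply]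
    simp only [mul_aJ]
    fin_cases i <;> fin_cases j <;>
      simp [aJ, Fin.sum_univ_three, Fin.rev, CharTwo.add_self_eq_zero, c.invol] <;> grind⟩

/-- `SU₃(2ⁿ)` has an element `x` with `x² ∉ Z` inverted by another. -/
theorem su_real : ∃ x y : SUs c 3, x ^ 4 = 1 ∧ y * x * y⁻¹ = x⁻¹ ∧
    x * x = GoldschmidtS3.uLong c := by
  obtain ⟨l, hl1⟩ := c.exists_trace_one
  have hσ : c.σ l = 1 + l := by rw [← hl1]; grind [CharTwo.add_self_eq_zero]
  have hm1 : l * (l * c.σ l) + c.σ (l * (l * c.σ l)) = l * c.σ l := by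
    rw [map_mul, map_mul, c.invol]
    linear_combination (l * c.σ l) * hl1
  set x := uni c 1 l (by simpa using hl1)
  set y := uni c l (l * (l * c.σ l)) hm1
  have hxx : x * x = GoldschmidtS3.uLong c := by
    refine SUs_ext c (Matrix.ext fun i j => ?_)
    simp only [PSUBorel.coe_mul]
    fin_cases i <;> fin_cases j <;>
      simp [x, uni, GoldschmidtS3.uLong, Matrix.mul_apply, Fin.sum_univ_three, CharTwo.add_self_eq_zero] <;> grind
  refine ⟨x, y, ?_, ?_, hxx⟩
  · rw [pow_succ, pow_succ, pow_succ, pow_one, hxx, mul_assoc, hxx]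
    refine SUs_ext c (Matrix.ext fun i j => ?_)
    simp only [PSUBorel.coe_mul, PSUBorel.coe_one]
    fin_cases i <;> fin_cases j <;>
      simp [GoldschmidtS3.uLong, Matrix.mul_apply, Fin.sum_univ_three, CharTwo.add_self_eq_zero]
  · rw [mul_inv_eq_iff_eq_mul, eq_inv_mul_iff_mul_eq, ← mul_assoc]
    refine SUs_ext c (Matrix.ext fun i j => ?_)
    simp only [PSUBorel.coe_mul]
    fin_cases i <;> fin_cases j <;>
      simp [x, y, uni, Matrix.mul_apply, Fin.sum_univ_three, CharTwo.add_self_eq_zero] <;> grind [CharTwo.add_self_eq_zero]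

omit [CharP F 2]

/-- `PSU₃(q)`, `q` even, has a real element of order four. -/
theorem psu_real {q : ℕ} (hF : Fintype.card F = q ^ 2) (hq : Even q) :
    ∃ x y : Cfsg.PSU 3 F q, x ^ 4 = 1 ∧ y * x * y⁻¹ = x⁻¹ ∧ x * x ≠ 1 := by
  haveI : CharP F 2 := by
    obtain ⟨p, hp⟩ := CharP.exists F
    obtain ⟨n, hpp, hn⟩ := FiniteField.card F p
    rw [hF] at hn
    have h2 : 2 ∣ p ^ (n : ℕ) := hn ▸ (even_iff_two_dvd.mp hq).trans (dvd_pow_self q (by norm_num))
    have := (Nat.prime_dvd_prime_iff_eq Nat.prime_two hpp).mp (Nat.prime_two.dvd_of_dvd_pow h2)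
    subst this
    exact hp
  obtain ⟨-, σ, hσ⟩ := CfsgLib.UnitaryBasic.frob_exists hF
  obtain ⟨d, hd⟩ : ∃ d : Conj F, d.q = q := ⟨⟨q, σ, hF, hσ⟩, rfl⟩
  subst hd
  obtain ⟨E⟩ := exists_iso d (n := 3)
  obtain ⟨x, y, h4, hinv, hxx⟩ := su_real d
  let π : SUs d 3 →* Cfsg.PSU 3 F d.q := (QuotientGroup.mk' _).comp E.toMonoidHom
  refine ⟨π x, π y, by rw [← map_pow, h4, map_one], by rw [← map_inv, ← map_inv, ← map_mul, ← map_mul, hinv], ?_⟩
  intro h
  rw [← map_mul, hxx] at h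
  have hz : E (GoldschmidtS3.uLong d) ∈ Subgroup.center (Cfsg.SU 3 F d.q) := (QuotientGroup.eq_one_iff _).mp h
  have hc : GoldschmidtS3.wLong d * GoldschmidtS3.uLong d = GoldschmidtS3.uLong d * GoldschmidtS3.wLong d :=
    E.injective (by rw [map_mul, map_mul]; exact Subgroup.mem_center_iff.mp hz (E (GoldschmidtS3.wLong d)))
  have hw : ((GoldschmidtS3.wLong d).1.1 * (GoldschmidtS3.uLong d).1.1) 0 0 =
      ((GoldschmidtS3.uLong d).1.1 * (GoldschmidtS3.wLong d).1.1) 0 0 := by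
    rw [← PSUBorel.coe_mul, ← PSUBorel.coe_mul, hc]
  simp [GoldschmidtS3.wLong, GoldschmidtS3.uLong, Matrix.mul_apply, Fin.sum_univ_three] at hw

end Unitary

end CfsgLib.GoldCascade

namespace CfsgLib.GoldCascade

open Cfsg

universe u

variable {G : Type u} [Group G] [Finite G]

/-- Only the involutions among the 2-elements are real. -/
theorem eq_inv_of_real (hirr : ∀ x : G, (∀ r : ℕ, r.Prime → r ∣ orderOf x → r = 2) →
      Subgroup.normalizer ((Subgroup.zpowers x : Subgroup G) : Set G) ≤ Subgroup.centralizer {x})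
    {x y : G} {k : ℕ} (hx : x ^ 2 ^ k = 1) (h : y * x * y⁻¹ = x⁻¹) : x = x⁻¹ := by
  have hn : y ∈ Subgroup.normalizer ((Subgroup.zpowers x : Subgroup G) : Set G) :=
    CfsgLib.Comp.mem_normalizer_of_maps fun z hz => by
      obtain ⟨i, rfl⟩ := Subgroup.mem_zpowers_iff.mp hz
      rw [← conj_zpow, h, inv_zpow]
      exact inv_mem (zpow_mem (Subgroup.mem_zpowers x) _)
  have hc := Subgroup.mem_centralizer_singleton_iff.mp (hirr x (fun r hr hd => (Nat.prime_dvd_prime_iff_eq hr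
    Nat.prime_two).mp (hr.dvd_of_dvd_pow (hd.trans (orderOf_dvd_of_pow_eq_one hx)))) hn)
  rwa [hc, mul_inv_cancel_right] at h

/-- The involutions of a Sylow 2-subgroup, with one. -/
theorem exists_omega (hirr : ∀ x : G, (∀ r : ℕ, r.Prime → r ∣ orderOf x → r = 2) →
      Subgroup.normalizer ((Subgroup.zpowers x : Subgroup G) : Set G) ≤ Subgroup.centralizer {x})
    (S : Sylow 2 G) (hS : Even (Nat.card G)) :
    ∃ A : Subgroup G, A ≠ ⊥ ∧ IsMulCommutative A ∧ IsStronglyClosed A (S : Subgroup G) := by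
  haveI : Fact (Nat.Prime 2) := ⟨Nat.prime_two⟩
  have hcomm : ∀ u ∈ (S : Subgroup G), ∀ v ∈ (S : Subgroup G), u * u = 1 → v * v = 1 → u * v = v * u := by
    intro u hu v hv hu2 hv2
    obtain ⟨k, hk⟩ := S.isPGroup' ⟨u * v, mul_mem hu hv⟩
    have hk' : (u * v) ^ 2 ^ k = 1 := congrArg Subtype.val hk
    have hinv : u * (u * v) * u⁻¹ = (u * v)⁻¹ := by
      rw [_root_.mul_inv_rev, inv_eq_of_mul_eq_one_right hu2, inv_eq_of_mul_eq_one_right hv2, ← mul_assoc, hu2,
        one_mul]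
    have h := eq_inv_of_real hirr hk' hinv
    rwa [_root_.mul_inv_rev, inv_eq_of_mul_eq_one_right hu2, inv_eq_of_mul_eq_one_right hv2] at h
  let A : Subgroup G :=
    { carrier := {u | u ∈ (S : Subgroup G) ∧ u * u = 1}
      one_mem' := ⟨one_mem _, one_mul 1⟩
      mul_mem' := fun {a b} ha hb => ⟨mul_mem ha.1 hb.1, by
        calc a * b * (a * b) = a * (b * a) * b := by group
          _ = a * (a * b) * b := by rw [hcomm a ha.1 b hb.1 ha.2 hb.2]
          _ = (a * a) * (b * b) := by group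
          _ = 1 := by rw [ha.2, hb.2, one_mul]⟩
      inv_mem' := fun {a} ha => ⟨inv_mem ha.1, by rw [← _root_.mul_inv_rev, ha.2, inv_one]⟩ }
  refine ⟨A, ?_, ⟨⟨fun a b => Subtype.ext (hcomm a a.2.1 b b.2.1 a.2.2 b.2.2)⟩⟩, fun a ha => ha.1,
    fun a ha g hg => ⟨hg, ?_⟩⟩
  · intro hb
    obtain ⟨t, ht⟩ := exists_prime_orderOf_dvd_card' 2 (even_iff_two_dvd.mp hS)
    obtain ⟨P, hP⟩ := (IsPGroup.of_card (n := 1) (by rw [Nat.card_zpowers, ht, pow_one]) :
      IsPGroup 2 (Subgroup.zpowers t)).exists_le_sylow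
    obtain ⟨g, hg⟩ := MulAction.exists_smul_eq G P S
    have h1 : g * t * g⁻¹ ∈ (S : Subgroup G) := by
      rw [← hg]; exact ⟨t, hP (Subgroup.mem_zpowers t), rfl⟩
    have h2 : g * t * g⁻¹ ∈ A := ⟨h1, by
      rw [show g * t * g⁻¹ * (g * t * g⁻¹) = g * (t * t) * g⁻¹ by group, ← pow_two, ← ht, pow_orderOf_eq_one]
      group⟩
    rw [hb, Subgroup.mem_bot, mul_inv_eq_one, mul_eq_left] at h2
    rw [h2, orderOf_one] at ht
    omega
  · rw [show g * a * g⁻¹ * (g * a * g⁻¹) = g * (a * a) * g⁻¹ by group, ha.2]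
    group

/-- S4030 from Goldschmidt's theorem. -/
theorem s4030 (hGold : Gold.{u}) [IsSimpleGroup G] (hna : ¬ IsMulCommutative G)
    (hirr : ∀ x : G, (∀ r : ℕ, r.Prime → r ∣ orderOf x → r = 2) →
      Subgroup.normalizer ((Subgroup.zpowers x : Subgroup G) : Set G) ≤ Subgroup.centralizer {x}) :
    (∃ (F : Type) (_ : Field F) (_ : Fintype F), 4 ≤ Fintype.card F ∧
        (Fintype.card F % 8 = 0 ∨ Fintype.card F % 8 = 3 ∨ Fintype.card F % 8 = 5) ∧
        Nonempty (G ≃* Matrix.ProjectiveSpecialLinearGroup (Fin 2) F)) ∨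
    Cfsg.IsSuzuki G ∨ Cfsg.IsRee G ∨ Cfsg.IsJ1 G := by
  haveI : Fact (Nat.Prime 2) := ⟨Nat.prime_two⟩
  -- `PSL₂` over a field of even order
  have hpow : ∀ (F : Type) [Field F] [Fintype F], (∃ a, 2 ≤ a ∧ Fintype.card F = 2 ^ a) →
      Nonempty (G ≃* Matrix.ProjectiveSpecialLinearGroup (Fin 2) F) →
      ∃ (F : Type) (_ : Field F) (_ : Fintype F), 4 ≤ Fintype.card F ∧
        (Fintype.card F % 8 = 0 ∨ Fintype.card F % 8 = 3 ∨ Fintype.card F % 8 = 5) ∧
        Nonempty (G ≃* Matrix.ProjectiveSpecialLinearGroup (Fin 2) F) := by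
    rintro F _ _ ⟨a, ha, hF⟩ ⟨e⟩
    rcases Nat.eq_or_lt_of_le ha with rfl | ha3
    · haveI : Fact (Nat.Prime 5) := ⟨by norm_num⟩
      obtain ⟨e4⟩ := Cfsg.Agent.S0252.result (F := F) hF
      obtain ⟨e5⟩ := Cfsg.Agent.S0253.result (F := ZMod 5) (ZMod.card 5)
      exact ⟨ZMod 5, inferInstance, inferInstance, by rw [ZMod.card]; norm_num,
        Or.inr (Or.inr (by rw [ZMod.card])), ⟨e.trans (e4.trans e5.symm)⟩⟩
    · obtain ⟨b, rfl⟩ : ∃ b, a = b + 3 := ⟨a - 3, by omega⟩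
      refine ⟨F, inferInstance, inferInstance, ?_, Or.inl ?_, ⟨e⟩⟩ <;> rw [hF, pow_add] <;>
        have := Nat.one_le_two_pow (n := b) <;> omega
  have hS0 : Even (Nat.card G) := by
    by_contra hodd
    haveI := Cfsg.Agent.S0205.result (G := G) (Nat.not_even_iff_odd.mp hodd)
    exact hna ⟨⟨IsSimpleGroup.comm_iff_isSolvable.mpr inferInstance⟩⟩
  let S : Sylow 2 G := default
  obtain ⟨A, hA, hAc, hAS⟩ := exists_omega hirr S hS0
  rcases hGold S A hA hAc hAS with hS | ⟨H, hH⟩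
  · have hab : ∀ P : Sylow 2 G, IsMulCommutative (P : Subgroup G) := fun P => by
      haveI := hS
      exact ⟨⟨fun a b => (Sylow.equiv P S).injective (by
        rw [map_mul, map_mul]; exact mul_comm' _ _)⟩⟩
    have hl := WalterAb.listed_of_P (fun X _ _ => Walter.p_all X) G inferInstance hna hab
    rcases hl with ⟨F, i1, i2, ⟨hq, h5⟩ | ⟨n, hn, hc⟩, e⟩ | hJ
    · exact Or.inl ⟨F, i1, i2, by omega, by omega, e⟩
    · exact Or.inl (hpow F ⟨n, hn, hc⟩ e)
    · rcases WalterAb.Listed.orders (G := G) (Or.inr hJ) with ⟨a, ha, F, i1, i2, hF, e⟩ | ⟨F, i1, i2, hF, e⟩ | h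
      · exact Or.inl (hpow F ⟨a, ha, hF⟩ e)
      · obtain ⟨e'⟩ := e
        exact Or.inl ⟨F, i1, i2, WalterUse.four_le_of_psl hna e', by omega, ⟨e'⟩⟩
      · exact Or.inr (Or.inr h)
  · rcases Cfsg.Agent.S0222.result (by
        by_contra hno
        push Not at hno
        exact hna ⟨⟨hno⟩⟩) H hH with ⟨F, i1, i2, hC, h4, e⟩ | h | ⟨F, i1, i2, q, hF, hq, h4, ⟨e⟩⟩
    · obtain ⟨n, hp, hn⟩ := FiniteField.card F 2
      refine Or.inl (hpow F ⟨n, ?_, hn⟩ e)
      by_contra h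
      have h1 : (n : ℕ) = 1 := by have := n.pos; omega
      rw [h1] at hn
      omega
    · exact Or.inr (Or.inl h)
    · exfalso
      obtain ⟨x, y, h4', hinv, hne⟩ := psu_real hF hq
      have h1 : e.symm y * e.symm x * (e.symm y)⁻¹ = (e.symm x)⁻¹ := by
        rw [← map_inv, ← map_inv, ← map_mul, ← map_mul, hinv]
      have h2 := eq_inv_of_real hirr (k := 2) (by rw [← map_pow, show (2 : ℕ) ^ 2 = 4 from rfl, h4', map_one]) h1
      refine hne (e.symm.injective ?_)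
      rw [map_mul, map_one]
      nth_rewrite 2 [h2]
      exact mul_inv_cancel _

end CfsgLib.GoldCascade
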